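import Cfsg.Agent.J1C.Rel
import Cfsg.Agent.J1C.L0

set_option autoImplicit false
set_option Elab.async false
set_option maxRecDepth 100000
set_option linter.all false

namespace Cfsg.Agent.J1C
open Cfsg.Agent.CGT

noncomputable def l1_n0 : Net := Net.cons 8 0x40 <|
  Net.cons 4 0x208 <|
  Net.cons 2 0x2002 <|
  Net.cons 1 0x4004 <|
  Net.cons 2 0x2122 <|
  Net.cons 4 0x208 <|
  Net.cons 8 0x40 <|
  Net.nil
noncomputable def l1_n1 : Net := Net.cons 8 0x20 <|
  Net.cons 4 0x604 <|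
  Net.cons 2 0x2000 <|
  Net.cons 1 0x4104 <|
  Net.cons 2 0x2010 <|
  Net.cons 4 0x604 <|
  Net.cons 8 0x20 <|
  Net.nil
noncomputable def l1_n2 : Net := Net.cons 8 0x40 <|
  Net.cons 4 0x404 <|
  Net.cons 2 0x200 <|
  Net.cons 1 0x450 <|
  Net.cons 2 0x232 <|
  Net.cons 4 0x404 <|
  Net.cons 8 0x40 <|
  Net.nil
noncomputable def l1_n3 : Net := Net.cons 8 0x20 <|
  Net.cons 4 0x208 <|
  Net.cons 2 0x20 <|
  Net.cons 1 0x111 <|
  Net.cons 2 0x20 <|
  Net.cons 4 0x20c <|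
  Net.cons 8 0x20 <|
  Net.nil
noncomputable def l1_ns : List Net := [l1_n0, l1_n1, l1_n2, l1_n3, Net.nil]
noncomputable def l1_R : List (List ℕ) := [[0, 0], [2, 2], [4, 4], [6, 6], [0, 2, 0, 2, 0, 2], [0, 4, 0, 4], [2, 4, 2, 4, 2, 4, 2, 4, 2, 4], [0, 2, 0, 4, 2, 0, 4, 2, 0, 4, 2, 4, 0, 2, 4], [2, 6, 2, 6], [0, 6, 0, 6, 0, 6, 0, 6, 0, 6], [0, 6, 4, 6, 4, 2, 4, 6, 4, 6], [0, 2, 6, 0, 4, 2, 6, 0, 4, 6, 2, 4]]
noncomputable def l1_S0 : List (List ℕ) := [[0], [2], [4]]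
noncomputable def l1_T : Tab := (.node 32 (.leaf 0x1e00001e0100001e0000150400001c00001c0300001c0000120200001200001a0100001a000011030000110000180200001800001001000015000015020000150000150100001500000e0300000e0000130200001300000d0400001200000d0300001100000d0100001000000b0200000e00000e0100000e00000a0400000d00000a0200000a00000b0100000b0000090300000a0000070300000900000701000007000007020000070000000400000000000003000000000000020000000000000100000000000009000000000000070000000000000500000000000000) (.leaf 0xb0000180000180300001c000018000000120000110000000d00001a000000150000150400001e00001500))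
noncomputable def l1_S : STC := ⟨l1_T, (.node 8 (.node 4 (.node 2 (.node 1 (.leaf 0x0) (.leaf 0x6010601002)) (.node 1 (.leaf 0x8020802002) (.leaf 0xa030a03002))) (.node 2 (.node 1 (.leaf 0x402040204020402004) (.leaf 0x301030103010301004)) (.node 1 (.leaf 0x40304030203040304010403040302030403040100a) (.leaf 0x20102010201020102010201006)))) (.node 4 (.node 2 (.node 1 (.leaf 0x30203020302030203020302030203020302030200a) (.leaf 0x40104010401040104010401040104010401040100a)) (.node 1 (.leaf 0x4040404002) (.leaf 0x3020403010402030104020103020403010402030104020100c))) (.node 2 (.node 1 (.leaf 0x1010101002) (.leaf 0x2020202002)) (.node 1 (.leaf 0x3030303002) (.leaf 0x4010302010301020301040b04010302010301020301040b00c))))), 0xb0c090a070805060403020100, [[], [0], [2], [4], [6], [0], [0], [2], [2], [4], [4], [6, 0, 4, 2, 0, 4, 0, 2, 4, 0, 6], [6, 0, 4, 2, 0, 4, 0, 2, 4, 0, 6]], [5, 7, 9]⟩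
noncomputable def l1_W : List (List ℕ) := [[6, 0, 4, 2, 0, 4, 0, 2, 4, 0, 6]]
theorem l1_h : l1_S.hypOK [0, 2, 4, 6] l1_R l1_S0 = true := by decide +kernel
theorem l1_c0 : l1_S.checks [0x2000, 0x1000, 0x1000, 0x1000, 0x300003001, 0x500004001, 0x700005001, 0x0, 0xe00000b00000f00806003, 0x0, 0x0, 0x0, 0x1600001200001500807003, 0x0, 0x0, 0x1c00001400000e00000d00000b00000d00000f00001500001d00008009, 0x0, 0x0, 0x0, 0x0, 0x2600001a00001d00806003, 0x0, 0x2a00001f00002b00807003, 0x2a00001c00001400000e00000900000f00001500001d00002b01408009, 0x0, 0x3000002000001900001b00002300409005, 0x0, 0x3400002200002500807003, 0x0, 0x3800002400001a00001400001100001500001b0000250000390040a009, 0x0, 0x3c00002a00001c00001400001100001500001d00002b00003d00008009, 0x2d00003d00003f00003c00002d00003d00003f00003c00002d00003d0040b00a, 0x4100003c0000c002, 0x3400002200002700002900002b00002d00004300002f00002d00002a0000280000260240d00c, 0x220000440000370000e003,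 0x330000470000390000f003, 0x4900003a00004800010003, 0xf00001300001700002100003100004a00003000002000001600001200000e0001100b] 0 39 = true := by decide +kernel
theorem l1_g : l1_S.goals l1_W 39 = true := by decide +kernel
theorem l1_mem {G : Type*} [Group G] {γ : ℕ → G} (hR : Holds (ext γ) l1_R) {H : Subgroup G}
    (hS : ∀ u ∈ l1_S0, ev (ext γ) u ∈ H) : ∀ u ∈ l1_W, ev (ext γ) u ∈ H :=
  have hy := STC.hypOK_sound hR hS l1_h
  STC.Upto.goals ((STC.upto_zero).step hy l1_c0) l1_g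
noncomputable def l1_E : Enum := ⟨l1_ns, l1_R, l1_S0 ++ l1_W, [], 0⟩
theorem l1_v : validAll (2 ^ 4) l1_ns = true := by decide +kernel
theorem l1_p0 : holdsB 4 l1_ns l1_R = true := by decide +kernel
theorem l1_p : Holds (lp l1_ns) l1_R := holdsB_sound l1_v l1_p0
theorem l1_f : allL l1_E.Sub (fixN l1_E.ns l1_E.b0) = true := by decide +kernel
theorem l1_r0 : l1_E.run [26, 12, 2, 0, 10, 4, 18, 8, 26, 12, 2, 0, 20, 3, 7, 11, 32, 16, 20, 4132, 4140, 4, 20495, 4116, 24, 8232, 8, 20520, 4128, 4112, 4128, 12328] (1 <<< 0) (List.replicate 8 0) (Enum.done 11 [0, 2, 4, 6]) = true := by decide +kernel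
theorem l1_fin {G : Type*} [Group G] {γ : ℕ → G} (hR : Holds (ext γ) l1_R) {H : Subgroup G}
    (hS : ∀ u ∈ l1_S0, ev (ext γ) u ∈ H) : l1_E.Fin γ H 11 [0, 2, 4, 6] :=
  have hy : l1_E.Hyp γ H := Enum.hyp_of l1_v hR l1_p (forall_mem_append' hS (l1_mem hR hS)) l1_f
  (Enum.fin_of_done hy (Enum.inv_init 8) l1_r0)
noncomputable def l2_n0 : Net := Net.cons 8 0xc0 <|
  Net.cons 4 0xc00 <|
  Net.cons 1 0x14 <|
  Net.cons 2 0x300 <|
  Net.cons 4 0xc00 <|
  Net.cons 8 0xc0 <|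
  Net.nil
noncomputable def l2_n1 : Net := Net.cons 2 0x2 <|
  Net.cons 1 0x104 <|
  Net.cons 2 0x32 <|
  Net.nil
noncomputable def l2_n2 : Net := Net.cons 8 0x80 <|
  Net.cons 4 0x80c <|
  Net.cons 1 0x1 <|
  Net.cons 2 0x230 <|
  Net.cons 4 0x80c <|
  Net.cons 8 0x80 <|
  Net.nil
noncomputable def l2_ns : List Net := [l2_n0, l2_n1, l2_n2, Net.nil, Net.nil]
noncomputable def l2_R : List (List ℕ) := [[0, 0], [2, 2], [4, 4], [0, 2, 0, 2, 0, 2], [0, 4, 0, 4], [2, 4, 2, 4, 2, 4, 2, 4, 2, 4], [0, 2, 0, 4, 2, 0, 4, 2, 0, 4, 2, 4, 0, 2, 4]]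
noncomputable def l2_S0 : List (List ℕ) := [[0], [2]]
noncomputable def l2_E : Enum := ⟨l2_ns, l2_R, l2_S0, [], 0⟩
theorem l2_v : validAll (2 ^ 4) l2_ns = true := by decide +kernel
theorem l2_p0 : holdsB 4 l2_ns l2_R = true := by decide +kernel
theorem l2_p : Holds (lp l2_ns) l2_R := holdsB_sound l2_v l2_p0
theorem l2_f : allL l2_E.Sub (fixN l2_E.ns l2_E.b0) = true := by decide +kernel
theorem l2_r0 : l2_E.run [18, 8, 10, 4, 18, 8, 2, 0, 10, 4, 18, 8, 2, 0, 4112, 3, 7, 16, 4108, 4116, 4112, 24, 0, 4108] (1 <<< 0) (List.replicate 6 0) (Enum.done 10 [0, 2, 4]) = true := by decide +kernel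
theorem l2_fin {G : Type*} [Group G] {γ : ℕ → G} (hR : Holds (ext γ) l2_R) {H : Subgroup G}
    (hS : ∀ u ∈ l2_S0, ev (ext γ) u ∈ H) : l2_E.Fin γ H 10 [0, 2, 4] :=
  have hy : l2_E.Hyp γ H := Enum.hyp_of l2_v hR l2_p hS l2_f
  (Enum.fin_of_done hy (Enum.inv_init 6) l2_r0)
noncomputable def l3_n0 : Net := Net.cons 2 0x2 <|
  Net.cons 1 0x4 <|
  Net.cons 2 0x2 <|
  Net.nil
noncomputable def l3_n1 : Net := Net.cons 1 0x1 <|
  Net.nil
noncomputable def l3_ns : List Net := [l3_n0, l3_n1, Net.nil, Net.nil, Net.nil]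
noncomputable def l3_R : List (List ℕ) := [[0, 0], [2, 2], [0, 2, 0, 2, 0, 2]]
noncomputable def l3_S0 : List (List ℕ) := [[0]]
noncomputable def l3_E : Enum := ⟨l3_ns, l3_R, l3_S0, [], 0⟩
theorem l3_v : validAll (2 ^ 3) l3_ns = true := by decide +kernel
theorem l3_p0 : holdsB 3 l3_ns l3_R = true := by decide +kernel
theorem l3_p : Holds (lp l3_ns) l3_R := holdsB_sound l3_v l3_p0
theorem l3_f : allL l3_E.Sub (fixN l3_E.ns l3_E.b0) = true := by decide +kernel
theorem l3_r0 : l3_E.run [10, 4, 2, 0, 3, 4104] (1 <<< 0) (List.replicate 4 0) (Enum.done 3 [0, 2]) = true := by decide +kernel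
theorem l3_fin {G : Type*} [Group G] {γ : ℕ → G} (hR : Holds (ext γ) l3_R) {H : Subgroup G}
    (hS : ∀ u ∈ l3_S0, ev (ext γ) u ∈ H) : l3_E.Fin γ H 3 [0, 2] :=
  have hy : l3_E.Hyp γ H := Enum.hyp_of l3_v hR l3_p hS l3_f
  (Enum.fin_of_done hy (Enum.inv_init 4) l3_r0)
noncomputable def l4_n0 : Net := Net.cons 1 0x1 <|
  Net.nil
noncomputable def l4_ns : List Net := [l4_n0, Net.nil, Net.nil, Net.nil, Net.nil]
noncomputable def l4_R : List (List ℕ) := [[0, 0]]
noncomputable def l4_S0 : List (List ℕ) := []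
noncomputable def l4_E : Enum := ⟨l4_ns, l4_R, l4_S0, [], 0⟩
theorem l4_v : validAll (2 ^ 3) l4_ns = true := by decide +kernel
theorem l4_p0 : holdsB 3 l4_ns l4_R = true := by decide +kernel
theorem l4_p : Holds (lp l4_ns) l4_R := holdsB_sound l4_v l4_p0
theorem l4_f : allL l4_E.Sub (fixN l4_E.ns l4_E.b0) = true := by decide +kernel
theorem l4_r0 : l4_E.run [2, 0] (1 <<< 0) (List.replicate 2 0) (Enum.done 2 [0]) = true := by decide +kernel
theorem l4_fin {G : Type*} [Group G] {γ : ℕ → G} (hR : Holds (ext γ) l4_R) {H : Subgroup G}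
    (hS : ∀ u ∈ l4_S0, ev (ext γ) u ∈ H) : l4_E.Fin γ H 2 [0] :=
  have hy : l4_E.Hyp γ H := Enum.hyp_of l4_v hR l4_p hS l4_f
  (Enum.fin_of_done hy (Enum.inv_init 2) l4_r0)
theorem bd4 {G : Type*} [Group G] {γ : ℕ → G} (hR : Holds (ext γ) RR) : Bd (gp γ [0]) 2 :=
  Bd.step (l4_fin (hR.subR (by decide +kernel)) (wordsIn_sound γ (L := []) (by decide +kernel))) (Bd.gp_nil γ) (by norm_num)
theorem bd3 {G : Type*} [Group G] {γ : ℕ → G} (hR : Holds (ext γ) RR) : Bd (gp γ [0, 2]) 6 :=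
  Bd.step (l3_fin (hR.subR (by decide +kernel)) (wordsIn_sound γ (L := [0]) (by decide +kernel))) (bd4 hR) (by norm_num)
theorem bd2 {G : Type*} [Group G] {γ : ℕ → G} (hR : Holds (ext γ) RR) : Bd (gp γ [0, 2, 4]) 60 :=
  Bd.step (l2_fin (hR.subR (by decide +kernel)) (wordsIn_sound γ (L := [0, 2]) (by decide +kernel))) (bd3 hR) (by norm_num)
theorem bd1 {G : Type*} [Group G] {γ : ℕ → G} (hR : Holds (ext γ) RR) : Bd (gp γ [0, 2, 4, 6]) 660 :=
  Bd.step (l1_fin (hR.subR (by decide +kernel)) (wordsIn_sound γ (L := [0, 2, 4]) (by decide +kernel))) (bd2 hR) (by norm_num)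
theorem bd0 {G : Type*} [Group G] {γ : ℕ → G} (hR : Holds (ext γ) RR) : Bd (gp γ [0, 2, 4, 6, 8]) 175560 :=
  Bd.step (l0_fin (hR.subR (by decide +kernel)) (wordsIn_sound γ (L := [0, 2, 4, 6]) (by decide +kernel))) (bd1 hR) (by norm_num)

end Cfsg.Agent.J1C
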