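import Cfsg.Agent.J1C.Gen
import Cfsg.Prelude.Def_Spor_J1

set_option autoImplicit false
set_option Elab.async false
set_option maxRecDepth 100000
set_option linter.all false

namespace Cfsg.Agent.J1C
open Cfsg.Agent.CGT

noncomputable def As0 : List (List ℕ) := [[11, 121, 1331, 14641, 161051, 1771561, 1],
  [1771561, 1, 11, 121, 1331, 14641, 161051],
  [15914676, 5816611, 4963056, 18166796, 19367136, 5502751, 2271811],
  [5607489, 5956117, 16558629, 3350049, 1973529, 5625817, 2414717]]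
noncomputable def W : List (List ℕ) := [[0, 0, 2, 0, 0, 3, 3, 0, 3, 0], [2, 1, 2, 2, 0, 2, 1, 3, 0, 3, 3, 1, 1, 2, 2, 2, 0, 3, 3, 1, 3, 3, 0, 2], [0, 2, 2, 2, 0, 3, 1, 3, 3, 0, 2, 1, 3, 3, 0, 0, 2, 1, 2, 1], [1, 1, 2, 1, 3, 0, 2, 2, 0, 3], [3, 1, 2, 2, 0, 2, 1, 3, 1, 1, 2, 0, 0, 2, 1, 2, 1]]
noncomputable def V : List (List ℕ) := [[8, 6, 0, 4, 6, 8, 2, 8, 0], [2, 0, 2, 8, 6, 2, 4, 2, 8, 6]]
noncomputable def Bs : List (List ℕ) := [[11, 121, 1331, 14641, 161051, 1771561, 1],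
  [15914676, 5816611, 4963056, 18166796, 19367136, 5502751, 2271811]]
theorem As0_inv : T.invB 7 2 As0 = true := by decide +kernel
theorem W_ok : T.exB 7 5 As0 W As = true := by decide +kernel
theorem V_ok : T.memB 7 As [0, 2, 4, 6, 8] V Bs = true := by decide +kernel
instance : Fact (Nat.Prime 11) := ⟨by norm_num⟩
noncomputable def e : ℕ → ZMod 11 := FT.el 11 0
theorem hT : T.OK e := FT.okB_sound (by simp) (Or.inl rfl) T_ok
noncomputable def ρ : Cfsg.Spor.J1 →* Matrix (Fin 7) (Fin 7) (ZMod 11) := (Units.coeHom _).comp Cfsg.Spor.J1.subtype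
theorem hρ : Function.Injective ρ := fun _ _ h => Subtype.ext (Units.ext h)
theorem hX : Cfsg.jankoMatrixX = T.mat e (Equiv.refl _) (nth [] Bs 0) := by decide +kernel
theorem hY : Cfsg.jankoMatrixY = T.mat e (Equiv.refl _) (nth [] Bs 1) := by decide +kernel
/-- the generators -/
noncomputable def γ : ℕ → Cfsg.Spor.J1 := T.gam e (Equiv.refl _) ρ As
theorem lets : T.Lets e (Equiv.refl _) (fun a => ρ (ext γ a)) As :=
  FT.lets_gam hT As_inv (FT.exB_sound hT (FT.lets_gam hT As0_inv fun j hj => by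
    interval_cases j
    exacts [⟨⟨_, Subgroup.subset_closure (Or.inl rfl)⟩, hX⟩, ⟨⟨_, Subgroup.subset_closure (Or.inr rfl)⟩, hY⟩]) W_ok)
theorem gen_top : gp γ [0, 2, 4, 6, 8] = ⊤ := eq_top_of_closure fun s hs => by
  rcases hs with rfl | rfl
  exacts [FT.memB_sound hT hρ lets V_ok (i := 0) (by decide) hX, FT.memB_sound hT hρ lets V_ok (i := 1) (by decide) hY]
theorem rels' : Holds (ext γ) RR := rels hT hρ lets
theorem cert : ∃ φ, Cert φ γ 9 l0_ns n_ts [0, 2, 4, 6, 8] d_ls := cert0 hT hρ lets (FT.gam_of_le rfl) gen_top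
theorem card_eq : Nat.card Cfsg.Spor.J1 = 175560 := by
  obtain ⟨φ, C⟩ := cert
  exact C.card.trans (by decide +kernel)

end Cfsg.Agent.J1C
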