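import Cfsg.Agent.J1C.Bound
import Cfsg.Agent.J1C.Tabs
import Cfsg.Agent.J1C.Tabs2

set_option autoImplicit false
set_option Elab.async false
set_option maxRecDepth 100000
set_option linter.all false

namespace Cfsg.Agent.J1C
open Cfsg.Agent.CGT

noncomputable def c_l0 : Level := ⟨118, [[0], [2], [4], [6], [8]], [1, 2, 3, 4, 0, 1, 3, 2, 4, 1, 0, 3, 2, 4, 1, 0], 0xfffffffffffffffffffffffffffffffffffffffffffffffffffffffffffffffffffffffffffffffffffffffffffffffffffffffffffffffffffffffffffffffffffffffffffffffffffffffffffffffffffffffffffffffffffffffffffffffffffffffffffffffffffffffffffffffffffffffffffffffffffffffffffffffffffffffffffffffffffffffffffffffffffffffffffffffffffffffffffffffffffffffffffffffffffffffffffffffffffffffffffffffffffffffffffffffff, 1540⟩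
noncomputable def c_l1 : Level := ⟨179, [[0], [8, 2, 6, 4], [6, 0, 2, 4, 2, 8, 6]], [1, 0, 2, 0, 1, 0, 2, 0, 2], 0x4008000000000000000100000000100000000000020000010000000000000088000000a8000000000000004008000040000003000001000000020000400080000000000000020000000000000000801000000400000000000004000000004000000000000000000000002008000110100010000000008400000008801004000000000000800200000000000000042000000000020080840002000000004000000050010000800000000000000000000000000480100004000040000, 57⟩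
noncomputable def c_l2 : Level := ⟨0, [[0]], [0], 0x800000000000000000000000000000000000000000000000000000000000000000000000000000000000001, 2⟩
noncomputable def c_ls : List Level := [c_l0, c_l1, c_l2]
theorem c_l0_ok : (ptsOK 11 [] && (wordsIn [0, 2, 4, 6, 8] c_l0.S && c_l0.ok 11 m_ns m_ts [])) = true := by decide +kernel
theorem c_l1_ok : (ptsOK 11 [118] && (wordsIn [0, 2, 4, 6, 8] c_l1.S && c_l1.ok 11 m_ns m_ts [118])) = true := by decide +kernel
theorem c_l2_ok : (ptsOK 11 [179, 118] && (wordsIn [0, 2, 4, 6, 8] c_l2.S && c_l2.ok 11 m_ns m_ts [179, 118])) = true := by decide +kernel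
theorem c_sound {G : Type*} [Group G] {φ : G →* Equiv.Perm ℕ} {γ : ℕ → G}
    (M : Model φ γ 11 m_ns m_ts) : ChainSound φ (gp γ [0, 2, 4, 6, 8]) 11 [] c_ls :=
  ⟨Level.ok_sound' M c_l0_ok,
   Level.ok_sound' M c_l1_ok,
   Level.ok_sound' M c_l2_ok, trivial⟩
theorem rels {Γ F ι : Type*} [Group Γ] [Field F] [Fintype ι] [DecidableEq ι] {e : ℕ → F} {σ : ι ≃ Fin 7}
    (hT : T.OK e) {ρ : Γ →* Matrix ι ι F} (hρ : Function.Injective ρ) {γ : ℕ → Γ}
    (hg : T.Lets e σ (fun a => ρ (ext γ a)) As) :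
    Holds (ext γ) RR := (forall_mem_append' (FT.holds_of_relB hT hρ hg rel0) (forall_mem_append' (FT.holds_of_relB hT hρ hg rel1) (forall_mem_append' (FT.holds_of_relB hT hρ hg rel2) (FT.holds_of_relB hT hρ hg rel3))))
theorem cert1 {Γ F ι : Type*} [Group Γ] [Field F] [Fintype ι] [DecidableEq ι] {e : ℕ → F} {σ : ι ≃ Fin 7}
    (hT : T.OK e) {ρ : Γ →* Matrix ι ι F} (hρ : Function.Injective ρ) {γ : ℕ → Γ}
    (hg : T.Lets e σ (fun a => ρ (ext γ a)) As)
    (h1 : ∀ j, 5 ≤ j → γ j = 1) (gen : gp γ [0, 2, 4, 6, 8] = ⊤) : ∃ φ, Cert φ γ 11 m_ns m_ts [0, 2, 4, 6, 8] c_ls := by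
  obtain ⟨φ, h2, h3⟩ := FT.exists_model hT ρ gen hg (ns := m_ns) rfl h1 m_v m_f P_ok acts
  have M : Model φ γ 11 m_ns m_ts := ⟨m_v, h2, m_ts_ok⟩
  exact ⟨_, Cert.of_bound M gen (c_sound M) ((bd0 (rels hT hρ hg)).top gen) (by decide +kernel)⟩
noncomputable def d_l0 : Level := ⟨0, [[0], [2], [4], [6], [8]], [4, 0, 1, 4, 0, 3, 2, 4, 0, 3, 1, 2, 0], 0x3ffffffffffffffffffffffffffffffffffffffffffffffffffffffffffffffffff, 266⟩
noncomputable def d_l1 : Level := ⟨78, [[0], [2], [4], [6]], [1, 2, 3, 0, 1, 2, 3, 0, 2, 3, 2], 0x20200018c1180c0785cfff038780580009e0db081e7f37f8dc1803706ded0dfbe, 110⟩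
noncomputable def d_l2 : Level := ⟨98, [[0], [2, 4, 6, 4, 2]], [1, 0], 0x4000000000000000000020040, 3⟩
noncomputable def d_l3 : Level := ⟨1, [[0]], [0], 0x6, 2⟩
noncomputable def d_ls : List Level := [d_l0, d_l1, d_l2, d_l3]
theorem d_l0_ok : (ptsOK 9 [] && (wordsIn [0, 2, 4, 6, 8] d_l0.S && d_l0.ok 9 l0_ns n_ts [])) = true := by decide +kernel
theorem d_l1_ok : (ptsOK 9 [0] && (wordsIn [0, 2, 4, 6, 8] d_l1.S && d_l1.ok 9 l0_ns n_ts [0])) = true := by decide +kernel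
theorem d_l2_ok : (ptsOK 9 [78, 0] && (wordsIn [0, 2, 4, 6, 8] d_l2.S && d_l2.ok 9 l0_ns n_ts [78, 0])) = true := by decide +kernel
theorem d_l3_ok : (ptsOK 9 [98, 78, 0] && (wordsIn [0, 2, 4, 6, 8] d_l3.S && d_l3.ok 9 l0_ns n_ts [98, 78, 0])) = true := by decide +kernel
theorem d_sound {G : Type*} [Group G] {φ : G →* Equiv.Perm ℕ} {γ : ℕ → G}
    (M : Model φ γ 9 l0_ns n_ts) : ChainSound φ (gp γ [0, 2, 4, 6, 8]) 9 [] d_ls :=
  ⟨Level.ok_sound' M d_l0_ok,
   Level.ok_sound' M d_l1_ok,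
   Level.ok_sound' M d_l2_ok,
   Level.ok_sound' M d_l3_ok, trivial⟩
theorem cert0 {Γ F ι : Type*} [Group Γ] [Field F] [Fintype ι] [DecidableEq ι] {e : ℕ → F} {σ : ι ≃ Fin 7}
    (hT : T.OK e) {ρ : Γ →* Matrix ι ι F} (hρ : Function.Injective ρ) {γ : ℕ → Γ}
    (hg : T.Lets e σ (fun a => ρ (ext γ a)) As)
    (h1 : ∀ j, 5 ≤ j → γ j = 1) (gen : gp γ [0, 2, 4, 6, 8] = ⊤) : ∃ φ, Cert φ γ 9 l0_ns n_ts [0, 2, 4, 6, 8] d_ls := by
  obtain ⟨φ, C⟩ := cert1 hT hρ hg h1 gen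
  haveI := C.fin
  have hN := C.card.trans (show chainCard c_ls = 175560 by decide +kernel)
  obtain ⟨f, hf⟩ := hom_of_bound C.gen hN (y := netPerm l0_ns)
    (bd0 ((rels hT hρ hg).pair (l0_p.subR (by decide +kernel)))) (m := 5)
    (fun j hj => by simp [h1 j hj]) (fun j hj => netPerm_of_le l0_ns hj) (by decide +kernel)
  have M : Model f γ 9 l0_ns n_ts := ⟨l0_v, hf, n_ts_ok⟩
  exact ⟨f, Cert.of_bound M C.gen (d_sound M) ⟨C.fin, hN.le⟩ (by decide +kernel)⟩

end Cfsg.Agent.J1C
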