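import Cfsg.Agent.J1C.InvPR

set_option autoImplicit false
set_option Elab.async false
set_option maxRecDepth 100000
set_option linter.all false

namespace Cfsg.Agent.J1C
open Cfsg.Agent.CGT

noncomputable def ql0_n0 : Net := Net.cons 1 0x555 <|
  Net.nil
noncomputable def ql0_n1 : Net := Net.cons 8 0xa0 <|
  Net.cons 4 0x800 <|
  Net.cons 1 0x104 <|
  Net.cons 2 0x312 <|
  Net.cons 4 0xa04 <|
  Net.cons 8 0xa0 <|
  Net.nil
noncomputable def ql0_ns : List Net := [ql0_n0, ql0_n1, Net.nil]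
noncomputable def ql0_R : List (List ℕ) := [[0, 0], [4, 4], [3, 4, 2, 4], [2, 2, 2, 2, 2], [2, 0, 2, 0, 2, 0, 4]]
noncomputable def ql0_S0 : List (List ℕ) := [[2], [4]]
noncomputable def ql0_E : Enum := ⟨ql0_ns, ql0_R, ql0_S0, [], 0⟩
theorem ql0_v : validAll (2 ^ 4) ql0_ns = true := by decide +kernel
theorem ql0_p0 : holdsB 4 ql0_ns ql0_R = true := by decide +kernel
theorem ql0_p : Holds (lp ql0_ns) ql0_R := holdsB_sound ql0_v ql0_p0
theorem ql0_f : allL ql0_E.Sub (fixN ql0_E.ns ql0_E.b0) = true := by decide +kernel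
theorem ql0_r0 : ql0_E.run [2, 0, 10, 9, 14, 13, 10, 9, 14, 13, 2, 0, 10, 9, 14, 13, 10, 9, 2, 0, 12, 9, 3, 9, 7, 12304, 0, 24592, 4104, 12296, 4104, 8208, 9, 12304, 0, 24592, 4104, 12296, 12, 9, 8208, 9, 24592] (1 <<< 0) (List.replicate 6 0) (Enum.done 12 [0, 2, 4]) = true := by decide +kernel
theorem ql0_fin {G : Type*} [Group G] {γ : ℕ → G} (hR : Holds (ext γ) ql0_R) {H : Subgroup G}
    (hS : ∀ u ∈ ql0_S0, ev (ext γ) u ∈ H) : ql0_E.Fin γ H 12 [0, 2, 4] :=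
  have hy : ql0_E.Hyp γ H := Enum.hyp_of ql0_v hR ql0_p hS ql0_f
  (Enum.fin_of_done hy (Enum.inv_init 6) ql0_r0)
noncomputable def ql1_n1 : Net := Net.cons 4 0xe <|
  Net.cons 1 0x50 <|
  Net.cons 2 0x20 <|
  Net.cons 4 0xf <|
  Net.nil
noncomputable def ql1_ns : List Net := [Net.nil, ql1_n1, Net.nil]
noncomputable def ql1_R : List (List ℕ) := [[4, 4], [3, 4, 2, 4], [2, 2, 2, 2, 2]]
noncomputable def ql1_S0 : List (List ℕ) := [[4]]
noncomputable def ql1_E : Enum := ⟨ql1_ns, ql1_R, ql1_S0, [], 0⟩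
theorem ql1_v : validAll (2 ^ 3) ql1_ns = true := by decide +kernel
theorem ql1_p0 : holdsB 3 ql1_ns ql1_R = true := by decide +kernel
theorem ql1_p : Holds (lp ql1_ns) ql1_R := holdsB_sound ql1_v ql1_p0
theorem ql1_f : allL ql1_E.Sub (fixN ql1_E.ns ql1_E.b0) = true := by decide +kernel
theorem ql1_r0 : ql1_E.run [10, 9, 14, 13, 10, 9, 14, 13, 8, 9, 3, 4100, 12292, 4100, 12292] (1 <<< 0) (List.replicate 6 0) (Enum.done 5 [2, 4]) = true := by decide +kernel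
theorem ql1_fin {G : Type*} [Group G] {γ : ℕ → G} (hR : Holds (ext γ) ql1_R) {H : Subgroup G}
    (hS : ∀ u ∈ ql1_S0, ev (ext γ) u ∈ H) : ql1_E.Fin γ H 5 [2, 4] :=
  have hy : ql1_E.Hyp γ H := Enum.hyp_of ql1_v hR ql1_p hS ql1_f
  (Enum.fin_of_done hy (Enum.inv_init 6) ql1_r0)
noncomputable def ql2_n2 : Net := Net.cons 1 0x1 <|
  Net.nil
noncomputable def ql2_ns : List Net := [Net.nil, Net.nil, ql2_n2]
noncomputable def ql2_R : List (List ℕ) := [[4, 4]]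
noncomputable def ql2_S0 : List (List ℕ) := []
noncomputable def ql2_E : Enum := ⟨ql2_ns, ql2_R, ql2_S0, [], 0⟩
theorem ql2_v : validAll (2 ^ 3) ql2_ns = true := by decide +kernel
theorem ql2_p0 : holdsB 3 ql2_ns ql2_R = true := by decide +kernel
theorem ql2_p : Holds (lp ql2_ns) ql2_R := holdsB_sound ql2_v ql2_p0
theorem ql2_f : allL ql2_E.Sub (fixN ql2_E.ns ql2_E.b0) = true := by decide +kernel
theorem ql2_r0 : ql2_E.run [18, 0] (1 <<< 0) (List.replicate 6 0) (Enum.done 2 [4]) = true := by decide +kernel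
theorem ql2_fin {G : Type*} [Group G] {γ : ℕ → G} (hR : Holds (ext γ) ql2_R) {H : Subgroup G}
    (hS : ∀ u ∈ ql2_S0, ev (ext γ) u ∈ H) : ql2_E.Fin γ H 2 [4] :=
  have hy : ql2_E.Hyp γ H := Enum.hyp_of ql2_v hR ql2_p hS ql2_f
  (Enum.fin_of_done hy (Enum.inv_init 6) ql2_r0)
theorem qbd2 {G : Type*} [Group G] {γ : ℕ → G} (hR : Holds (ext γ) qRR) : Bd (gp γ [4]) 2 :=
  Bd.step (ql2_fin (hR.subR (by decide +kernel)) (wordsIn_sound γ (L := []) (by decide +kernel))) (Bd.gp_nil γ) (by norm_num)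
theorem qbd1 {G : Type*} [Group G] {γ : ℕ → G} (hR : Holds (ext γ) qRR) : Bd (gp γ [2, 4]) 10 :=
  Bd.step (ql1_fin (hR.subR (by decide +kernel)) (wordsIn_sound γ (L := [4]) (by decide +kernel))) (qbd2 hR) (by norm_num)
theorem qbd0 {G : Type*} [Group G] {γ : ℕ → G} (hR : Holds (ext γ) qRR) : Bd (gp γ [0, 2, 4]) 120 :=
  Bd.step (ql0_fin (hR.subR (by decide +kernel)) (wordsIn_sound γ (L := [2, 4]) (by decide +kernel))) (qbd1 hR) (by norm_num)

end Cfsg.Agent.J1C
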