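import Cfsg.Agent.J1C.Cert
import Cfsg.Agent.CGT.Out

set_option autoImplicit false
set_option Elab.async false
set_option maxRecDepth 100000
set_option linter.all false

namespace Cfsg.Agent.J1C
open Cfsg.Agent.CGT

noncomputable def g_Ws : List (List ℕ) := [[6, 4, 0, 2, 0, 8, 6, 0, 4, 6], [2, 8, 0, 8, 2, 0, 8, 2], [2, 8, 0, 2, 0, 8, 2], [6, 4, 6, 0, 2, 4, 0], [0, 6, 0, 2], [2, 4, 6, 4, 2, 0], [0], [0], [0], [2], [4], [6], [8]]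
theorem g_s0 : slpB 9 n_ts (chainBase [] d_ls) g_Ws [[3, 0, 2, 4, 0, 5, 4, 5], [0, 0, 5, 1, 3, 1, 5, 1, 4, 5, 3], [9, 6, 9, 7, 8, 7, 8, 6, 7, 6], [7, 9, 7, 9, 9, 6, 8], [11, 12, 11, 13, 13], [14], [6, 9, 10, 14], [9, 6, 8, 8, 6], [9, 7, 10], [1, 3, 0, 9, 11]] 3 13 = true := by decide +kernel
theorem g_top {G : Type*} [Group G] {φ : G →* Equiv.Perm ℕ} {γ : ℕ → G}
    (C : Cert φ γ 9 l0_ns n_ts [0, 2, 4, 6, 8] d_ls) : gw γ (g_Ws.take 3) = ⊤ := by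
  have h0 : SlpTo γ (gw γ (g_Ws.take 3)) g_Ws 3 := fun i hi =>
    ev_mem_gw γ (by interval_cases i <;> decide +kernel)
  rw [eq_top_iff, ← C.gen]
  exact SlpTo.gp_le (SlpTo.step C.M C.base (by decide +kernel) h0 g_s0) (by decide +kernel)

end Cfsg.Agent.J1C
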