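import Cfsg.Agent.J1C.OutU
import Cfsg.Agent.CGT.Out3

set_option autoImplicit false
set_option Elab.async false
set_option maxRecDepth 100000
set_option linter.all false

namespace Cfsg.Agent.J1C
open Cfsg.Agent.CGT

noncomputable def od : OutD := ⟨9, n_ts, (chainBase [] d_ls), [6, 4, 0, 2, 0, 8, 6, 0, 4, 6], [2, 8, 0, 8, 2, 0, 8, 2], [2, 8, 0, 2, 0, 8, 2], [2, 8, 0, 8, 2, 0, 8, 2], 19, 8, 1, 5, 5, [1, 2, 4], [], [[0, 2, 2, 4, 0, 2, 2, 4, 0, 2, 2, 4, 0, 2, 2, 4, 0, 2, 2, 4]], [[[6, 4, 0, 2, 0, 8, 6, 0, 4, 6], [2, 8, 0, 8, 2, 0, 8, 2], [2, 8, 0, 2, 0, 8, 2]]]⟩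
theorem od_b : od.basic 175560 0 = true := by decide +kernel
theorem od_c : conjB 9 n_ts (chainBase [] d_ls) [6, 4, 0, 2, 6, 8] od.u cu_S.u od.Cl cu_S.Cl = true := by decide +kernel
theorem od_k1_0 : od.cands 1 ((([] :: od.Cl).drop 0).take 1) [[0, 1, 1, 1, 1, 1]] = true := by decide +kernel
theorem od_k2_0 : od.cands 2 ((([] :: od.Cl).drop 0).take 1) [[1, 1, 1, 1, 1, 1]] = true := by decide +kernel
theorem od_k4_0 : od.cands 4 ((([] :: od.Cl).drop 0).take 1) [[1, 1, 1, 1, 1, 1]] = true := by decide +kernel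

end Cfsg.Agent.J1C
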