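import Cfsg.Agent.J1C.Cert
import Cfsg.Agent.CGT.Out

set_option autoImplicit false
set_option Elab.async false
set_option maxRecDepth 100000
set_option linter.all false

namespace Cfsg.Agent.J1C
open Cfsg.Agent.CGT

noncomputable def cu_l0 : Level := ⟨0, [[0], [2], [4], [6], [8]], [4, 0, 1, 4, 0, 3, 2, 4, 0, 3, 1, 2, 0], 0x3ffffffffffffffffffffffffffffffffffffffffffffffffffffffffffffffffff, 266⟩
noncomputable def cu_l1 : Level := ⟨78, [[0], [2], [4], [6]], [1, 2, 3, 0, 1, 2, 3, 0, 2, 3, 2], 0x20200018c1180c0785cfff038780580009e0db081e7f37f8dc1803706ded0dfbe, 110⟩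
noncomputable def cu_l2 : Level := ⟨84, [[0], [2, 4, 6, 4, 2]], [], 0x10000000000000000000000000801000000080000040100000, 6⟩
noncomputable def cu_ls : List Level := [cu_l0, cu_l1, cu_l2]
noncomputable def cu_S : Srch := ⟨9, n_ts, (chainBase [] d_ls), [6, 4, 0, 2, 0, 8, 2, 0, 6], [6, 4, 0, 2, 0, 8, 2, 0, 6], []⟩
noncomputable def cu_lk : List ℕ := [1, 79]
noncomputable def cu_tl : List Level := [cu_l1, cu_l2]
noncomputable def cu_R0 : ℕ := 0x2020004000010031033a253966e1e9fdff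
theorem cu_l0_ok : (ptsOK 9 [] && (wordsIn [0, 2, 4, 6, 8] cu_l0.S && cu_l0.ok 9 l0_ns n_ts [])) = true := by decide +kernel
theorem cu_l1_ok : (ptsOK 9 [0] && (wordsIn [0, 2, 4, 6, 8] cu_l1.S && cu_l1.ok 9 l0_ns n_ts [0])) = true := by decide +kernel
theorem cu_l2_ok : cu_l2.okT 9 n_ts [0, 2, 4, 6, 8] [78, 0] (.cons [0] (.cons [2] (.cons [0] .nil .nil) .nil) (.cons [2] (.cons [0] .nil .nil) .nil)) = true := by decide +kernel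
theorem cu_aux : cu_S.auxB [0, 2, 4, 6, 8] cu_ls [] (0 :: cu_lk) = true := by decide +kernel
theorem cu_cov : Nat.beq (Nat.land cu_l0.O (Srch.cover l0_ns (invW cu_S.u') cu_R0 5)) cu_l0.O = true := by decide +kernel
theorem cu_r0 : cu_S.run (.cons [] (.cons [] (.cons [] (.leaf 2000) .nil) .nil) (.cons [8] .nil (.cons [0, 8] (.cons [0, 2, 0, 6] .nil .nil) (.cons [2, 8] .nil (.cons [2, 0, 8] .nil (.cons [6, 0, 8] (.cons [2, 4, 6, 0, 4, 6] .nil .nil) (.cons [8, 0, 8] .nil (.cons [0, 2, 8] .nil (.cons [4, 2, 8] .nil (.cons [0, 2, 0, 8] .nil (.cons [4, 2, 0, 8] .nil (.cons [6, 2, 0, 8] (.cons [4, 6, 4, 0, 6, 4] .nil .nil) (.cons [8, 2, 0, 8] .nil (.cons [0, 6, 0, 8] .nil (.cons [4, 6, 0, 8] (.cons [2, 4, 6, 0, 4, 6] .nil .nil) (.cons [8, 6, 0, 8] (.cons [6, 2, 4, 6] .nil .nil) (.cons [6, 8, 0, 8] (.cons [2, 4, 2, 4, 2] .nil .nil) (.cons [8, 0, 2,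 8] (.cons [6, 2, 4, 2, 4, 2] .nil .nil) (.cons [2, 4, 2, 8] .nil (.cons [6, 4, 2, 8] .nil (.cons [8, 4, 2, 8] .nil (.cons [8, 0, 2, 0, 8] (.cons [2, 4, 6, 0, 2] .nil .nil) (.cons [2, 4, 2, 0, 8] .nil (.cons [6, 4, 2, 0, 8] (.cons [2, 6] .nil .nil) (.cons [0, 6, 2, 0, 8] (.cons [2, 4, 2, 0, 6, 4] .nil .nil) (.cons [4, 6, 2, 0, 8] (.cons [0, 6, 4, 2, 0, 6] .nil .nil) (.cons [2, 8, 2, 0, 8] .nil (.cons [4, 8, 2, 0, 8] .nil (.cons [2, 0, 6, 0, 8] .nil (.cons [8, 0, 6, 0, 8] .nil (.cons [2, 4, 6, 0, 8] (.cons [4, 6, 2, 0, 6, 4] .nil .nil) (.cons [6, 4, 6, 0, 8] (.cons [0, 6, 4] .nil .nil) (.cons [2, 8, 6, 0, 8] .nil (.cons [6, 8, 6, 0, 8] (.cons [6, 2, 0, 4, 6] .nil .nil) (.cons [8, 2, 8, 0, 8] (.cons [2, 4, 2, 0, 6, 4] .nil .nil) (.cons [8, 6, 0, 2, 8] (.cons [4, 2, 6] .nil .nil) (.cons [2, 8, 0, 2, 8] .nil (.cons [4, 8, 0, 2, 8] (.cons [2, 0, 4,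 2] .nil .nil) (.cons [6, 8, 0, 2, 8] .nil (.cons [6, 2, 4, 2, 8] .nil (.cons [8, 2, 4, 2, 8] (.cons [2, 4, 2, 4, 6] .nil .nil) (.cons [4, 2, 8, 2, 8] .nil (.cons [4, 6, 8, 2, 8] (.cons [4, 0, 6, 4] .nil .nil) (.cons [2, 4, 0, 2, 0, 8] (.cons [6, 4, 6, 2, 4] .nil .nil) (.cons [0, 6, 4, 2, 0, 8] .nil (.cons [8, 2, 0, 6, 0, 8] .nil (.cons [2, 8, 4, 6, 0, 8] (.cons [4, 6, 4, 0, 6, 4] .nil .nil) (.cons [8, 6, 8, 6, 0, 8] (.cons [2, 4, 0, 6, 4] .nil .nil) .nil)))))))))))))))))))))))))))))))))))))))))))))))) (⟨cu_l0.b, cu_l0.S, [], cu_R0, 0⟩ :: cu_tl) (0 :: cu_lk) Pd.nil 0 = true := by decide +kernel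
theorem cu_sound {G : Type*} [Group G] {φ : G →* Equiv.Perm ℕ} {γ : ℕ → G}
    (M : Model φ γ 9 l0_ns n_ts) : ChainSound φ (gp γ [0, 2, 4, 6, 8]) 9 [] cu_ls :=
  ⟨Level.ok_sound' M cu_l0_ok,
   Level.ok_sound' M cu_l1_ok,
   Level.okT_sound M cu_l2_ok, trivial⟩
theorem cu_cent {G : Type*} [Group G] {φ : G →* Equiv.Perm ℕ} {γ : ℕ → G}
    (C : Cert φ γ 9 l0_ns n_ts [0, 2, 4, 6, 8] d_ls) : Cent γ cu_S.u cu_S.Cl 5 :=
  have X := (C.rechain (cu_sound C.M) (by decide +kernel)).exact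
  have A := Srch.auxB_sound (S := cu_S) C.M (K := ⊤) le_top rfl cu_aux
  have F := fun {tr : Tr} {R : ℕ} => Srch.found_of_run (S := cu_S) C.M C.base (by decide +kernel) X A (tr := tr) (R := R)
  Cent.of_found (S := cu_S) C.M X rfl (F cu_r0) cu_cov

end Cfsg.Agent.J1C
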