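import Cfsg.Agent.J1C.Cert
import Cfsg.Agent.CGT.Out

set_option autoImplicit false
set_option Elab.async false
set_option maxRecDepth 100000
set_option linter.all false

namespace Cfsg.Agent.J1C
open Cfsg.Agent.CGT

noncomputable def cx_l0 : Level := ⟨0, [[0], [2], [4], [6], [8]], [4, 0, 1, 4, 0, 3, 2, 4, 0, 3, 1, 2, 0], 0x3ffffffffffffffffffffffffffffffffffffffffffffffffffffffffffffffffff, 266⟩
noncomputable def cx_l1 : Level := ⟨78, [[0], [2], [4], [6]], [1, 2, 3, 0, 1, 2, 3, 0, 2, 3, 2], 0x20200018c1180c0785cfff038780580009e0db081e7f37f8dc1803706ded0dfbe, 110⟩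
noncomputable def cx_l2 : Level := ⟨6, [[0], [2, 4, 6, 4, 2]], [], 0x4000000000000000000020040, 3⟩
noncomputable def cx_l3 : Level := ⟨138, [[2, 4, 6, 4, 2]], [], 0x80000000000000000000000000000040000000000000000000000000000000000, 2⟩
noncomputable def cx_ls : List Level := [cx_l0, cx_l1, cx_l2, cx_l3]
noncomputable def cx_S : Srch := ⟨9, n_ts, (chainBase [] d_ls), [6, 4, 0, 2, 0, 8, 6, 0, 4, 6], [6, 4, 0, 2, 0, 8, 6, 0, 4, 6], []⟩
noncomputable def cx_lk : List ℕ := [1, 79, 7]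
noncomputable def cx_tl : List Level := [cx_l1, cx_l2, cx_l3]
noncomputable def cx_R0 : ℕ := 0x109088c43f
theorem cx_l0_ok : (ptsOK 9 [] && (wordsIn [0, 2, 4, 6, 8] cx_l0.S && cx_l0.ok 9 l0_ns n_ts [])) = true := by decide +kernel
theorem cx_l1_ok : (ptsOK 9 [0] && (wordsIn [0, 2, 4, 6, 8] cx_l1.S && cx_l1.ok 9 l0_ns n_ts [0])) = true := by decide +kernel
theorem cx_l2_ok : cx_l2.okT 9 n_ts [0, 2, 4, 6, 8] [78, 0] (.cons [0] (.cons [2] .nil .nil) .nil) = true := by decide +kernel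
theorem cx_l3_ok : cx_l3.okT 9 n_ts [0, 2, 4, 6, 8] [6, 78, 0] (.cons [0] .nil .nil) = true := by decide +kernel
theorem cx_aux : cx_S.auxB [0, 2, 4, 6, 8] cx_ls [] (0 :: cx_lk) = true := by decide +kernel
theorem cx_cov : Nat.beq (Nat.land cx_l0.O (Srch.cover l0_ns (invW cx_S.u') cx_R0 18)) cx_l0.O = true := by decide +kernel
theorem cx_r0 : cx_S.run (.cons [] (.cons [] (.cons [] (.cons [] (.leaf 2000) .nil) .nil) .nil) (.cons [8] .nil (.cons [0, 8] (.cons [6] .nil .nil) (.cons [2, 8] .nil (.cons [2, 0, 8] (.cons [2, 6] .nil .nil) (.cons [6, 0, 8] .nil (.cons [0, 2, 0, 8] .nil (.cons [0, 6, 0, 8] .nil (.cons [4, 6, 0, 8] .nil (.cons [6, 8, 0, 8] (.cons [0, 2, 0, 6] .nil .nil) (.cons [6, 4, 2, 8] (.cons [4, 6] .nil .nil) (.cons [6, 0, 2, 0, 8] .nil (.cons [6, 4, 2, 0, 8] .nil (.cons [0, 8, 2, 0, 8] .nil .nil)))))))))))))) (⟨cx_l0.b, cx_l0.S, [], cx_R0, 0⟩ :: cx_tl) (0 :: cx_lk) Pd.nil 0 =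 true := by decide +kernel
theorem cx_sound {G : Type*} [Group G] {φ : G →* Equiv.Perm ℕ} {γ : ℕ → G}
    (M : Model φ γ 9 l0_ns n_ts) : ChainSound φ (gp γ [0, 2, 4, 6, 8]) 9 [] cx_ls :=
  ⟨Level.ok_sound' M cx_l0_ok,
   Level.ok_sound' M cx_l1_ok,
   Level.okT_sound M cx_l2_ok,
   Level.okT_sound M cx_l3_ok, trivial⟩
theorem cx_cent {G : Type*} [Group G] {φ : G →* Equiv.Perm ℕ} {γ : ℕ → G}
    (C : Cert φ γ 9 l0_ns n_ts [0, 2, 4, 6, 8] d_ls) : Cent γ cx_S.u cx_S.Cl 18 :=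
  have X := (C.rechain (cx_sound C.M) (by decide +kernel)).exact
  have A := Srch.auxB_sound (S := cx_S) C.M (K := ⊤) le_top rfl cx_aux
  have F := fun {tr : Tr} {R : ℕ} => Srch.found_of_run (S := cx_S) C.M C.base (by decide +kernel) X A (tr := tr) (R := R)
  Cent.of_found (S := cx_S) C.M X rfl (F cx_r0) cx_cov

end Cfsg.Agent.J1C
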